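import Mathlib
import Groth.Agent.Lib.ProfTranslate.Main
import Groth.Agent.Lib.GrpdQuot.FiniteAffine
import Groth.Prelude.Def_Red
import Groth.Agent.S1127
import Groth.Agent.S0021
import Groth.Agent.Lib.Japanese.IntegralSpec
import Groth.Agent.Lib.GrpSchField.Pts

/-!
# Finite sets of points of a group of finite type over an Artinian ring lie in affine opens
-/

set_option autoImplicit false
set_option linter.style.haveILetI false
set_option backward.isDefEq.respectTransparency false

universe u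

open CategoryTheory CategoryTheory.Limits AlgebraicGeometry MonoidalCategory CartesianMonoidalCategory MonObj

noncomputable section

namespace GrothLib.WeilFinite6

theorem finite_of_forall_isClosed {X : Scheme.{u}} [TopologicalSpace.NoetherianSpace X] {Z : Set X} (hZ : IsClosed Z)
    (h : ∀ z ∈ Z, IsClosed ({z} : Set X)) : Z.Finite := by
  obtain ⟨S, hSf, hSc, hSi, hZS⟩ := TopologicalSpace.NoetherianSpace.exists_finite_set_isClosed_irreducible hZ
  rw [hZS]
  refine hSf.sUnion fun t ht => ?_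
  obtain ⟨z, hz⟩ := QuasiSober.sober (hSi t ht) (hSc t ht)
  have hzt : closure {z} = t := hz
  have hzc : IsClosed ({z} : Set X) := h z (hZS ▸ ⟨t, ht, hzt ▸ subset_closure rfl⟩)
  rw [← hzt, hzc.closure_eq]
  exact Set.finite_singleton z

/-- Finite sets of points of a group of finite type over an algebraically closed field lie in affine opens. -/
theorem exists_affine_algClosed (k : Type u) [Field k] [IsAlgClosed k] (G : Over (Spec (CommRingCat.of k))) [GrpObj G]
    [LocallyOfFiniteType G.hom] (F : Set G.left) (hF : F.Finite) (hcl : ∀ x ∈ F, IsClosed ({x} : Set G.left)) :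
    ∃ U : G.left.Opens, IsAffineOpen U ∧ F ⊆ U := by
  classical
  have := LocallyOfFiniteType.jacobsonSpace G.hom
  have : Finite F := hF.to_subtype
  let A : F → CommRingCat.{u} := fun _ => CommRingCat.of k
  let m : (∐ fun x : F => Spec (A x)) ⟶ G.left := Sigma.desc fun x => pointOfClosedPoint G.hom x.1 (hcl x.1 x.2)
  let f : Spec (CommRingCat.of (F → k)) ⟶ G.left := inv (sigmaSpec A) ≫ m
  have hcomp : f ≫ G.hom = Spec.map (CommRingCat.ofHom (algebraMap k (F → k))) := by
    rw [Category.assoc, IsIso.inv_comp_eq]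
    refine Sigma.hom_ext _ _ fun x => ?_
    rw [Sigma.ι_desc_assoc, pointOfClosedPoint_comp, ι_sigmaSpec_assoc, ← Spec.map_comp]
    exact (Spec.map_id _).symm
  obtain ⟨U, hU, hU'⟩ := GrothLib.ProfTranslate.exists_affineOpen_range_subset
    (fun g hg => ⟨Over.homMk (pointOfClosedPoint G.hom g hg) (pointOfClosedPoint_comp G.hom g hg),
      pointOfClosedPoint_apply G.hom g hg _⟩)
    (Over.homMk f hcomp : Over.mk (Spec.map (CommRingCat.ofHom (algebraMap k (F → k)))) ⟶ G)
  refine ⟨U, hU, fun x hx => hU' ⟨Spec.map (CommRingCat.ofHom (Pi.evalRingHom (fun _ : F => k) ⟨x, hx⟩))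
    (IsLocalRing.closedPoint k), ?_⟩⟩
  show f _ = x
  have h : Spec.map (CommRingCat.ofHom (Pi.evalRingHom (fun _ : F => k) ⟨x, hx⟩)) ≫ f =
      pointOfClosedPoint G.hom x (hcl x hx) := by
    rw [show Spec.map (CommRingCat.ofHom (Pi.evalRingHom (fun _ : F => k) ⟨x, hx⟩)) = Sigma.ι (fun x : F => Spec (A x)) ⟨x, hx⟩ ≫ sigmaSpec A
      from (ι_sigmaSpec A _).symm, Category.assoc, IsIso.hom_inv_id_assoc]
    exact Sigma.ι_desc _ _
  rw [← Scheme.Hom.comp_apply, h]
  exact pointOfClosedPoint_apply G.hom x _ _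

/-- Finite sets of points of a group of finite type over a field lie in affine opens. -/
theorem exists_affine_field (k : Type u) [Field k] (G : Over (Spec (CommRingCat.of k))) [GrpObj G]
    [LocallyOfFiniteType G.hom] [QuasiCompact G.hom] (F : Set G.left) (hF : F.Finite) :
    ∃ U : G.left.Opens, IsAffineOpen U ∧ F ⊆ U := by
  classical
  rcases F.eq_empty_or_nonempty with rfl | hne
  · exact ⟨⊥, isAffineOpen_bot _, Set.empty_subset _⟩
  haveI := LocallyOfFiniteType.jacobsonSpace G.hom
  haveI : CompactSpace G.left := QuasiCompact.compactSpace_of_compactSpace G.hom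
  haveI : IsLocallyNoetherian G.left := LocallyOfFiniteType.isLocallyNoetherian G.hom
  haveI : IsNoetherian G.left := {}
  -- reduce to closed points
  choose c hc hcc using fun x : G.left =>
    (show ∃ c : G.left, x ⤳ c ∧ IsClosed ({c} : Set G.left) by
      obtain ⟨c, h1, h2⟩ := nonempty_inter_closedPoints (Z := closure ({x} : Set G.left)) ⟨x, subset_closure rfl⟩
        isClosed_closure.isLocallyClosed
      exact ⟨c, specializes_iff_mem_closure.2 h1, h2⟩)
  let kb := AlgebraicClosure k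
  let b : Spec (CommRingCat.of kb) ⟶ Spec (CommRingCat.of k) := Spec.map (CommRingCat.ofHom (algebraMap k kb))
  let Gb : Over (Spec (CommRingCat.of kb)) := (Over.pullback b).obj G
  letI : GrpObj Gb := Red.grpObj_bc b G
  haveI : LocallyOfFiniteType Gb.hom := inferInstanceAs (LocallyOfFiniteType (pullback.snd G.hom b))
  haveI : QuasiCompact Gb.hom := inferInstanceAs (QuasiCompact (pullback.snd G.hom b))
  haveI : CompactSpace Gb.left := QuasiCompact.compactSpace_of_compactSpace Gb.hom
  haveI : IsLocallyNoetherian Gb.left := LocallyOfFiniteType.isLocallyNoetherian Gb.hom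
  haveI : IsNoetherian Gb.left := {}
  haveI : IsIntegralHom b := IsIntegralHom.SpecMap_iff.mpr (algebraMap_isIntegral_iff.mpr inferInstance)
  haveI : Flat b := inferInstance
  haveI : Surjective b := ⟨fun x => ⟨IsLocalRing.closedPoint kb, @Subsingleton.elim _ (inferInstanceAs (Subsingleton (PrimeSpectrum k))) _ _⟩⟩
  let q : Gb.left ⟶ G.left := pullback.fst G.hom b
  haveI : IsIntegralHom q := inferInstanceAs (IsIntegralHom (pullback.fst G.hom b))
  let F' : Set Gb.left := q ⁻¹' (c '' F)
  have hcF : IsClosed (c '' F) := by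
    rw [← Set.biUnion_of_singleton (c '' F)]
    exact (hF.image c).isClosed_biUnion fun y ⟨x, _, hx⟩ => hx ▸ hcc x
  have hF'c : ∀ z ∈ F', IsClosed ({z} : Set Gb.left) := by
    rintro z ⟨x, -, hx⟩
    refine isClosed_of_closure_subset fun w hw => ?_
    have hzw : z ⤳ w := specializes_iff_mem_closure.2 hw
    have h1 : q w = q z := by
      have h2 := (hzw.map q.continuous)
      rw [← hx] at h2 ⊢
      exact Set.mem_singleton_iff.1 ((hcc x).closure_subset (specializes_iff_mem_closure.1 h2))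
    exact (GrothLib.Japanese.eq_of_specializes_of_isIntegralHom q hzw h1.symm).symm
  obtain ⟨U, hU, hF'U⟩ := exists_affine_algClosed kb Gb F'
    (finite_of_forall_isClosed (hcF.preimage q.continuous) hF'c) hF'c
  let W : G.left.Opens := ⟨(q '' (U : Set Gb.left)ᶜ)ᶜ, (q.isClosedMap _ U.2.isClosed_compl).isOpen_compl⟩
  have hFW : F ⊆ W := fun x hx => (hc x).mem_open W.2 (by
    rintro ⟨z, hz, hzx⟩
    exact hz (hF'U ⟨x, hx, hzx.symm⟩))
  have hle : q ⁻¹ᵁ W ≤ U := fun z hz => by_contra fun hn => hz ⟨z, hn, rfl⟩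
  haveI : IsAffine (U : Scheme.{u}) := hU
  haveI : CompactSpace (q ⁻¹ᵁ W : Scheme.{u}) := isCompact_iff_compactSpace.1 (TopologicalSpace.NoetherianSpace.isCompact _)
  haveI : CompactSpace (W : Scheme.{u}) := isCompact_iff_compactSpace.1 (TopologicalSpace.NoetherianSpace.isCompact _)
  haveI hqaW' : Scheme.IsQuasiAffine (q ⁻¹ᵁ W : Scheme.{u}) := Scheme.IsQuasiAffine.of_isImmersion (Gb.left.homOfLE hle)
  have hP : Mor2.IsQuasiAffine ((q ⁻¹ᵁ W).ι ≫ Gb.hom) := by
    refine ⟨quasiCompact_of_compactSpace _, fun V _ => ?_⟩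
    let P : (q ⁻¹ᵁ W : Scheme.{u}).Opens := ((q ⁻¹ᵁ W).ι ≫ Gb.hom) ⁻¹ᵁ V
    haveI : TopologicalSpace.NoetherianSpace (q ⁻¹ᵁ W : Scheme.{u}) := (q ⁻¹ᵁ W).ι.isOpenEmbedding.isInducing.noetherianSpace
    haveI : CompactSpace (P : Scheme.{u}) := isCompact_iff_compactSpace.1 (TopologicalSpace.NoetherianSpace.isCompact _)
    exact Scheme.IsQuasiAffine.of_isImmersion P.ι
  have sq : IsPullback (q ∣_ W) ((q ⁻¹ᵁ W).ι ≫ Gb.hom) (W.ι ≫ G.hom) b :=
    (isPullback_morphismRestrict q W).paste_vert (IsPullback.of_hasPullback G.hom b)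
  haveI := Groth.Agent.S1127.result.{u}
  have hW : Mor2.IsQuasiAffine (W.ι ≫ G.hom) :=
    MorphismProperty.of_isPullback_of_descendsAlong (P := fun _ _ f => Mor2.IsQuasiAffine f)
      (Q := @Surjective ⊓ @Flat ⊓ @QuasiCompact) sq.flip
      ⟨⟨‹Surjective b›, ‹Flat b›⟩, inferInstance⟩ hP
  haveI : Scheme.IsQuasiAffine ((⊤ : (W : Scheme.{u}).Opens) : Scheme.{u}) := hW.2 ⊤ (isAffineOpen_top _)
  haveI : Scheme.IsQuasiAffine (W : Scheme.{u}) := Scheme.IsQuasiAffine.of_isAffineHom (W : Scheme.{u}).topIso.inv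
  obtain ⟨V, hV, hFV⟩ := GrothLib.GrpdQuot.exists_affineOpen_of_finite_of_quasiAffine (W := (W : Scheme.{u})) (W.ι ⁻¹' F)
    (hF.preimage W.ι.isOpenEmbedding.injective.injOn)
  exact ⟨W.ι ''ᵁ V, hV.image_of_isOpenImmersion W.ι, fun x hx => ⟨⟨x, hFW hx⟩, hFV hx, rfl⟩⟩

/-- Finite sets of points of a group of finite type over an Artinian ring lie in affine opens. -/
theorem exists_affine_artinian (A : Type u) [CommRing A] [IsArtinianRing A] (G : Over (Spec (CommRingCat.of A)))
    [GrpObj G] [LocallyOfFiniteType G.hom] [QuasiCompact G.hom] (F : Set G.left) (hF : F.Finite) :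
    ∃ U : G.left.Opens, IsAffineOpen U ∧ F ⊆ U := by
  classical
  haveI : CompactSpace G.left := QuasiCompact.compactSpace_of_compactSpace G.hom
  haveI : IsLocallyNoetherian G.left := LocallyOfFiniteType.isLocallyNoetherian G.hom
  haveI : IsNoetherian G.left := {}
  haveI : DiscreteTopology (Spec (CommRingCat.of A)) := inferInstanceAs (DiscreteTopology (PrimeSpectrum A))
  have key : ∀ s : PrimeSpectrum A, ∃ U : G.left.Opens, IsAffineOpen U ∧
      (∀ x ∈ U, G.hom x = s) ∧ ∀ x ∈ F, G.hom x = s → x ∈ U := by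
    intro s
    haveI : s.asIdeal.IsMaximal := inferInstance
    letI : Field (A ⧸ s.asIdeal) := Ideal.Quotient.field s.asIdeal
    let c : Spec (CommRingCat.of (A ⧸ s.asIdeal)) ⟶ Spec (CommRingCat.of A) :=
      Spec.map (CommRingCat.ofHom (Ideal.Quotient.mk s.asIdeal))
    haveI : IsClosedImmersion c := IsClosedImmersion.spec_of_surjective _ Ideal.Quotient.mk_surjective
    have hcr : Set.range c = {s} := by
      refine (range_comap_of_surjective _ _ Ideal.Quotient.mk_surjective).trans ?_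
      rw [Ideal.mk_ker, ← PrimeSpectrum.closure_singleton, (PrimeSpectrum.isClosed_singleton_iff_isMaximal s).2 inferInstance |>.closure_eq]
    let Gs : Over (Spec (CommRingCat.of (A ⧸ s.asIdeal))) := (Over.pullback c).obj G
    letI : GrpObj Gs := Red.grpObj_bc c G
    haveI : LocallyOfFiniteType Gs.hom := inferInstanceAs (LocallyOfFiniteType (pullback.snd G.hom c))
    haveI : QuasiCompact Gs.hom := inferInstanceAs (QuasiCompact (pullback.snd G.hom c))
    let i : Gs.left ⟶ G.left := pullback.fst G.hom c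
    haveI : IsClosedImmersion i := inferInstanceAs (IsClosedImmersion (pullback.fst G.hom c))
    have hir : Set.range i = G.hom ⁻¹' {s} := by
      show Set.range (pullback.fst G.hom c) = _
      rw [Scheme.Pullback.range_fst, hcr]
    obtain ⟨U, hU, hFU⟩ := exists_affine_field (A ⧸ s.asIdeal) Gs (i ⁻¹' F)
      (hF.preimage i.isClosedEmbedding.injective.injOn)
    have hio : IsOpen (i '' (U : Set Gs.left)) := by
      refine i.isClosedEmbedding.isInducing.isOpenMap ?_ _ U.2
      rw [hir]
      exact (isOpen_discrete _).preimage G.hom.continuous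
    refine ⟨⟨_, hio⟩, ?_, ?_, ?_⟩
    · let V : G.left.Opens := ⟨_, hio⟩
      haveI : IsAffine (U : Scheme.{u}) := hU
      have hUV : U ≤ i ⁻¹ᵁ V := fun z hz => ⟨z, hz, rfl⟩
      have hVU : i ⁻¹ᵁ V ≤ U := fun z ⟨z', hz', h⟩ => i.isClosedEmbedding.injective h ▸ hz'
      haveI : IsAffine (i ⁻¹ᵁ V : Scheme.{u}) := le_antisymm hUV hVU ▸ hU
      haveI : Surjective (i ∣_ V) := ⟨fun ⟨x, z, hz, hzx⟩ => ⟨⟨z, hUV hz⟩, Subtype.ext ((morphismRestrict_base_coe i V _).trans hzx)⟩⟩
      haveI : IsClosedImmersion (i ∣_ V) := IsZariskiLocalAtTarget.restrict ‹_› V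
      haveI : CompactSpace (V : Scheme.{u}) := isCompact_iff_compactSpace.1 (TopologicalSpace.NoetherianSpace.isCompact _)
      haveI : IsNoetherian (V : Scheme.{u}) := {}
      exact Groth.Agent.S0021.result (i ∣_ V)
    · rintro x ⟨z, -, rfl⟩
      exact (show i z ∈ G.hom ⁻¹' {s} from hir ▸ ⟨z, rfl⟩)
    · intro x hx hxs
      obtain ⟨z, rfl⟩ : x ∈ Set.range i := hir ▸ hxs
      exact ⟨z, hFU hx, rfl⟩
  choose U hU hUs hFU using key
  refine ⟨⨆ s, U s, IsAffineOpen.iSup_of_disjoint hU ?_, fun x hx => TopologicalSpace.Opens.mem_iSup.2 ⟨_, hFU _ x hx rfl⟩⟩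
  intro s t hne
  rw [Function.onFun, disjoint_iff_inf_le]
  exact fun x hx => (hne ((hUs s x hx.1).symm.trans (hUs t x hx.2))).elim

end GrothLib.WeilFinite6
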