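import Groth.Agent.Lib.WeilHomeo4.Main

/-!
# Weil restriction when finite sets of points lie in affine opens
-/

set_option autoImplicit false
set_option backward.isDefEq.respectTransparency false
set_option backward.isDefEq.respectTransparency.types false

universe u

open CategoryTheory CategoryTheory.Limits AlgebraicGeometry Opposite GrothLib.WeilHomeo4

noncomputable section

namespace GrothLib.WeilFinite6

variable {S S' : Scheme.{u}} (f : S' ⟶ S) (X' : Over S') [IsFinite f] [Flat f] [LocallyOfFinitePresentation f]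

/-- The open subfunctor of a chart. -/
def openOf (l : Idx f X') {T : Over S} (a : Pt f X' T) : T.left.Opens where
  carrier := T.hom ⁻¹' (l.V : Set S) ∩ ((pullback.fst T.hom f).base '' (a.left ⁻¹' (l.U : Set X'.left))ᶜ)ᶜ
  is_open' := (l.V.2.preimage T.hom.continuous).inter
    ((pullback.fst T.hom f).isClosedMap _ (l.U.2.preimage a.left.continuous).isClosed_compl).isOpen_compl

/-- Weil restriction along a finite locally free morphism, when finite sets of points lie in affine opens. -/
theorem exists_weilRes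
    (hfin : ∀ (V : S.Opens), IsAffineOpen V → ∀ F : Set X'.left, F.Finite →
      F ⊆ (X'.hom ⁻¹ᵁ f ⁻¹ᵁ V : X'.left.Opens) → ∃ U : X'.left.Opens, IsAffineOpen U ∧ F ⊆ U ∧ U ≤ X'.hom ⁻¹ᵁ f ⁻¹ᵁ V) :
    ∃ (R : Over S) (q : Red.bc f R ⟶ X'), WeilRes.IsWeilRes f X' R q := by
  refine ((GrothLib.RepOver.exists_representableBy (F := WeilRes.functor f X') (isSheaf_functor f X')
    (fun l : Idx f X' => l.chart.Z) (fun l => l.chart.univ) (fun l {T} a => openOf f X' l a) ?_ ?_ ?_).elim
      fun P hP => hP.elim fun e => ⟨P, e.homEquiv (𝟙 P), WeilRes.IsWeilRes.of_representableBy e⟩)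
  · intro l T a T' g
    constructor
    · intro hg
      obtain ⟨h, hh⟩ := l.chart.exists_hom ((Over.pullback f).map g ≫ a) (fun z => by
          change T'.hom z ∈ Set.range l.hV.fromSpec
          rw [l.hV.range_fromSpec, ← Over.w g]
          exact (hg ⟨z, rfl⟩).1) (fun w => by
          change a.left (((Over.pullback f).map g).left w) ∈ Set.range l.hU.fromSpec
          rw [l.hU.range_fromSpec]
          by_contra hc
          refine (hg ⟨(pullback.fst T'.hom f).base w, rfl⟩).2 ⟨_, hc, ?_⟩
          exact congrArg (fun m => m w) (isPullback_map f g).w)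
      exact ⟨h, hh⟩
    · rintro ⟨h, hh⟩ _ ⟨z, rfl⟩
      refine ⟨?_, fun ⟨w, hw, hwz⟩ => hw ?_⟩
      · change T.hom (g.left z) ∈ (l.V : Set S)
        rw [← l.hV.range_fromSpec, ← Scheme.Hom.comp_apply, Over.w g, ← Over.w h]
        exact ⟨_, rfl⟩
      · obtain ⟨w', hw', -⟩ := Scheme.exists_preimage_of_isPullback (isPullback_map f g) w z hwz
        have hh' : (Over.pullback f).map h ≫ l.chart.univ = (Over.pullback f).map g ≫ a := hh
        have := congrArg (fun m => m.left w') hh'
        change a.left w ∈ (l.U : Set X'.left)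
        rw [← l.hU.range_fromSpec, ← hw']
        exact ⟨_, this⟩
  · exact fun l T h h' e => l.chart.hom_ext e
  · intro T a z
    obtain ⟨V, hV, hzV, -⟩ := exists_isAffineOpen_mem_and_subset (x := T.hom z) (U := ⊤) trivial
    obtain ⟨U, hU, hFU, hUV⟩ := hfin V hV (a.left '' ((pullback.fst T.hom f) ⁻¹' {z}))
      (((pullback.fst T.hom f).finite_preimage_singleton z).image _) (by
      rintro _ ⟨w, hw, rfl⟩
      have h1 : a.left ≫ X'.hom = pullback.snd T.hom f := Over.w a
      change f (X'.hom (a.left w)) ∈ V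
      rw [← Scheme.Hom.comp_apply a.left, h1, ← Scheme.Hom.comp_apply, ← pullback.condition, Scheme.Hom.comp_apply]
      exact (show pullback.fst T.hom f w = z from hw) ▸ hzV)
    refine ⟨⟨(⟨V, hV⟩, ⟨U, hU⟩), hUV⟩, hzV, ?_⟩
    rintro ⟨w', hw', hwz⟩
    exact hw' (hFU ⟨w', hwz, rfl⟩)

end GrothLib.WeilFinite6
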